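import Mathlib
import Cfsg.Agent.SF6.K0
import Cfsg.Agent.S8.Mod
import Cfsg.Agent.Cl.AutOD4
import Cfsg.Agent.Cl.Transport
import Cfsg.Agent.Spor.FL.Lab

/-!
An involution `t` centralising a subgroup `L ≅ Ω₈⁺(2)`: letters, triality, automorphisms.
Model and python helper: tools/o8/m.py.
-/

set_option autoImplicit false
set_option linter.unusedSectionVars false
set_option maxRecDepth 100000
set_option synthInstance.maxSize 100000
set_option synthInstance.maxHeartbeats 1000000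

namespace Cfsg.Agent.SF8

open Cfsg Cfsg.Lie Cfsg.Lie.ChevalleyDatum Cfsg.Agent.Chev Cfsg.Agent.Cl
open Cfsg.Agent.Rec Cfsg.Agent.Spor Cfsg.Agent.Spor.NM Subgroup

/-- The arithmetic for `2 × O₈⁺(2)`. -/
noncomputable def A8 : Ar := SF6.ar2 B8.A

/-- The codes of the root elements as matrices. -/
noncomputable def cR : List ℕ := [(nat_lit 0x8040211208040201), (nat_lit 0x8041201408040201), (nat_lit 0x8040209009040201), (nat_lit 0x8140201808040201), (nat_lit 0x8040205008050201), (nat_lit 0x8040203008040301), (nat_lit 0x8042241008040201), (nat_lit 0x8040a0100a040201), (nat_lit 0x8240281008040201), (nat_lit 0x8040601008060201), (nat_lit 0x80c020100c040201), (nat_lit 0x8448201008040201), (nat_lit 0x8040201048840201), (nat_lit 0xc0402010080c0201), (nat_lit 0x8060201008040601), (nat_lit 0x8040201028048201), (nat_lit 0xa040201008040a01), (nat_lit 0x8040201008244201), (nat_lit 0x8040301008040203), (nat_lit 0x8050201008040205), (nat_lit 0x8040201018040281),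 (nat_lit 0x9040201008040209), (nat_lit 0x8040201008140241), (nat_lit 0x8040201008041221)]

/-- The codes of `t` and of the root elements. -/
noncomputable def cX : List ℕ := [(nat_lit 0x10080402010080403), (nat_lit 0x10080422410080402), (nat_lit 0x10082402810080402), (nat_lit 0x10080412012080402), (nat_lit 0x10280403010080402), (nat_lit 0x1008040a0100a0402), (nat_lit 0x10080406010080602), (nat_lit 0x10084482010080402), (nat_lit 0x10081402014080402), (nat_lit 0x10480502010080402), (nat_lit 0x10080c020100c0402), (nat_lit 0x10180402018080402), (nat_lit 0x10890402010080402), (nat_lit 0x10080402091080402), (nat_lit 0x18080402010180402), (nat_lit 0x100c0402010080c02), (nat_lit 0x10080402050090402), (nat_lit 0x14080402010081402), (nat_lit 0x10080402010488402), (nat_lit 0x10080602010080406), (nat_lit 0x100a040201008040a), (nat_lit 0x10080402030080502), (nat_lit 0x12080402010080412), (nat_lit 0x10080402010280482), (nat_lit 0x10080402010082442)]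

/-- The six symmetries of the diagram, on the nodes. -/
def PI : Fin 6 → List (Fin 4) := ![[0, 1, 2, 3], [0, 1, 3, 2], [2, 1, 0, 3], [3, 1, 2, 0], [2, 1, 3, 0], [3, 1, 0, 2]]

/-- The six symmetries of the diagram, on the roots. -/
def SG : Fin 6 → List ℕ := ![[0, 1, 2, 3, 4, 5, 6, 7, 8, 9, 10, 11, 12, 13, 14, 15, 16, 17, 18, 19, 20, 21, 22, 23],
  [0, 1, 3, 2, 4, 5, 6, 8, 7, 9, 11, 10, 13, 12, 14, 16, 15, 17, 18, 19, 21, 20, 22, 23],
  [0, 1, 2, 6, 7, 10, 3, 4, 8, 9, 5, 11, 12, 18, 14, 15, 19, 20, 13, 16, 17, 21, 22, 23],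
  [0, 1, 6, 3, 8, 11, 2, 7, 4, 9, 10, 5, 18, 13, 14, 19, 16, 21, 12, 15, 20, 17, 22, 23],
  [0, 1, 6, 2, 7, 10, 3, 8, 4, 9, 11, 5, 18, 12, 14, 19, 15, 20, 13, 16, 21, 17, 22, 23],
  [0, 1, 3, 6, 8, 11, 2, 4, 7, 9, 5, 10, 13, 18, 14, 16, 19, 21, 12, 15, 17, 20, 22, 23]]

/-- The simple roots and their negatives. -/
def i8 : List ℕ := [18, 14, 13, 12, 5, 9, 10, 11]

/-- The root elements as words in the simple ones. -/
def w8 : List (List ℕ) :=
  [[1, 5, 1, 3, 7, 3, 2, 6, 2, 1, 5, 1, 4, 1, 5, 1, 2, 6, 2, 3, 7, 3, 1, 5, 1], [3, 7, 3, 2, 6, 2, 1, 5, 1, 4, 1, 5, 1, 2, 6, 2, 3, 7, 3], [2, 6, 2, 1, 5, 1, 4, 1, 5, 1, 2, 6, 2], [3, 7, 3, 1, 5, 1, 4, 1, 5, 1, 3, 7, 3], [1, 5, 1, 4, 1, 5, 1], [4], [3, 7, 3, 2, 6, 2, 5, 2, 6, 2, 3, 7, 3], [2, 6, 2, 5, 2, 6, 2], [3, 7, 3, 5, 3, 7, 3], [5], [6], [7], [3], [2], [1], [3, 7, 3, 1, 3, 7, 3], [2, 6, 2, 1, 2, 6, 2], [3, 7, 3, 2, 6, 2, 1, 2, 6, 2, 3, 7, 3], [0], [1, 5, 1, 0, 1, 5, 1], [3, 7, 3, 1, 5, 1,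 0, 1, 5, 1, 3, 7, 3], [2, 6, 2, 1, 5, 1, 0, 1, 5, 1, 2, 6, 2], [3, 7, 3, 2, 6, 2, 1, 5, 1, 0, 1, 5, 1, 2, 6, 2, 3, 7, 3], [1, 5, 1, 3, 7, 3, 2, 6, 2, 1, 5, 1, 0, 1, 5, 1, 2, 6, 2, 3, 7, 3, 1, 5, 1]]

/-- The Chevalley group. -/
abbrev D4 : Type := chevD4.group (ZMod 2)

/-- Its root elements. -/
noncomputable def X0 : List D4 := (List.range 24).map fun r => chevD4.XG (ZMod 2) r 1

theorem nth_X0 {r : ℕ} (h : r < 24) : nth 1 X0 r = chevD4.XG (ZMod 2) r 1 := by
  rw [nth_of_lt 1 (by simpa [X0] using h)]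
  simp [X0]

theorem rep80 {a : ℕ} {g : S8.G80} (ha : blt a (nat_lit 0x10000000000000000) = true)
    (h : g.val = dec (n := 8) finSumFinEquiv 1 (fun x => (x : ZMod 2)) a) : S8.C80.Rep a g := by
  have := B8.spec.of_coe (ι := Fin 4 ⊕ Fin 4) finSumFinEquiv ha h
  exact ⟨this.1, this.2⟩

theorem mat_ok : ∀ r < 24, ∀ i j : Fin 4 ⊕ Fin 4,
    (oB (ZMod 2) j + ((d4E r : ZMod 2) * 1 * oB (ZMod 2) j (d4A r).swap) • oB (ZMod 2) (d4C r) -
      ((d4E r : ZMod 2) * 1 * oB (ZMod 2) j (d4C r).swap) • oB (ZMod 2) (d4A r)) i =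
    dec (n := 8) finSumFinEquiv 1 (fun x => (x : ZMod 2)) (nth B8.A.one cR r) i j :=
  @of_decide_eq_true _ (@Nat.decidableBallLT _ _ fun _ _ => @Fintype.decidableForallFintype _ _
    (fun _ => @Fintype.decidableForallFintype _ _ (fun _ => instDecidableEqFin 2 _ _) _) _) (by decide +kernel)

theorem exists_rho : ∃ ρ : D4 →* S8.G80, Function.Injective ρ ∧ S8.C80.RepL cR (X0.map ρ) := by
  obtain ⟨e, he⟩ := exists_d4_equiv (F := ZMod 2)
  have hc : Subgroup.center (commutator (OG (quad_plus 4 (ZMod 2)))) = ⊥ := by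
    rw [← Subgroup.card_eq_one, card_center_of_EO_le quad_plus_nondeg (by simp)
      ⟨oB (ZMod 2) (.inl 0), by simp [oB], q_oB _⟩ commutator_plus_four.ge, if_neg]
    exact fun h => h.1 CharTwo.two_eq_zero
  let ι := (QuotientGroup.quotientMulEquivOfEq hc).trans QuotientGroup.quotientBot
  let ρ : D4 →* S8.G80 := ((Subgroup.subtype _).comp (omatEquiv (quad_plus 4 (ZMod 2))).symm.toMonoidHom).comp
    ((Subgroup.subtype _).comp (e.trans ι).toMonoidHom)
  have k : ∀ r < 24, S8.C80.Rep (nth B8.A.one cR r) (ρ (chevD4.XG (ZMod 2) r 1)) := fun r hr => by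
    refine rep80 ((by decide +kernel : ∀ r < 24,
      blt (nth B8.A.one cR r) (nat_lit 0x10000000000000000) = true) r hr) (Matrix.ext fun i j => ?_)
    have h1 : ρ (chevD4.XG (ZMod 2) r 1) = ((omatEquiv (quad_plus 4 (ZMod 2))).symm (d4Y (ZMod 2) ⟨r, hr⟩ 1)).1 := by
      have := he ⟨r, hr⟩ 1
      change ((omatEquiv (quad_plus 4 (ZMod 2))).symm (ι (e (chevD4.XG (ZMod 2) r 1))).1).1 = _
      rw [this]
      rfl
    have h2 := congrFun (omatEquiv_symm_mulVec (d4Y (ZMod 2) ⟨r, hr⟩ 1) (oB (ZMod 2) j)) i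
    rw [oB, Matrix.mulVec_single_one, d4Y, oEE_app (d4_ne r hr)] at h2
    rw [h1]
    exact h2.trans (mat_ok r hr i j)
  refine ⟨ρ, (Subtype.val_injective.comp (omatEquiv _).symm.injective).comp
    (Subtype.val_injective.comp (e.trans ι).injective), ?_⟩
  have h3 : cR = (List.range 24).map (nth B8.A.one cR) := eq_of_beqL (by decide +kernel)
  rw [h3, X0, List.map_map]
  generalize hl : List.range 24 = l
  have h4 : ∀ r ∈ l, r < 24 := fun r hr => List.mem_range.1 (hl ▸ hr)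
  clear hl h3
  induction l with
  | nil => exact Cod.repL_nil
  | cons a l ih => exact (k a (h4 a List.mem_cons_self)).cons (ih fun r hr => h4 r (List.mem_cons_of_mem _ hr))

theorem exists_cod0 : ∃ C : Cod B8.A D4, C.RepL cR X0 := by
  obtain ⟨ρ, h1, h2⟩ := exists_rho
  refine ⟨_, h2.embed (by simp) (H := ρ.range) (fun i => by rw [Rec.nth_map]; exact ⟨_, rfl⟩)
    (MonoidHom.ofInjective h1).symm.toMonoidHom (MonoidHom.ofInjective h1).symm.injective fun i => ?_⟩
  exact (MonoidHom.ofInjective h1).symm_apply_eq.2 (Subtype.ext (Rec.nth_map ρ X0 i))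

theorem clos_X0 : clos X0 = ⊤ := by
  rw [eq_top_iff, ← chevD4.XS_XG_univ (ZMod 2)]
  refine XS_le fun r _ u => ?_
  rcases (by decide : ∀ u : ZMod 2, u = 0 ∨ u = 1) u with rfl | rfl
  · have h : chevD4.XG (ZMod 2) r (0 + 0) = _ := (chevD4.isModel_XG (ZMod 2)).add r 0 0
    rw [add_zero, left_eq_mul] at h
    rw [h]
    exact one_mem _
  · exact nth_X0 r.2 ▸ nth_mem_clos X0 r

theorem w8_ok : ∀ k : Fin 6, beqL (w8.map (evC B8.A ((i8.map (nth 0 (SG k))).map (nth B8.A.one cR))))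
    ((SG k).map (nth B8.A.one cR)) = true := by decide +kernel

theorem X0_words (k : Fin 6) :
    w8.map (evalW (nth 1 ((i8.map (nth 0 (SG k))).map (nth 1 X0)))) = (SG k).map (nth 1 X0) := by
  obtain ⟨C, h⟩ := exists_cod0
  exact ((h.pick _).words w8 (w8_ok k)).unique (h.pick _)

theorem SG0 {G : Type*} [Group G] {l : List G} (h : l.length = 24) : (SG 0).map (nth 1 l) = l :=
  List.ext_getElem (by simp [SG, h]) fun i h1 h2 => by
    rw [List.getElem_map, (by decide : ∀ i (h : i < (SG 0).length), (SG 0)[i] = i) i (by simpa using h1),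
      nth_of_lt 1 h2]

theorem gr_X0 {π : Equiv.Perm (Fin 4)} {α : MulAut D4} (h : IsGr chevD4 (ZMod 2) π α) (k : Fin 6)
    (hk : ∀ i : Fin 4, π i = (PI k).getD i 0) : X0.map α = (SG k).map (nth 1 X0) := by
  have h0 := X0_words 0
  rw [SG0 (by simp [X0])] at h0
  have h1 : ((i8.map (nth 0 (SG 0))).map (nth 1 X0)).map α.toMonoidHom = (i8.map (nth 0 (SG k))).map (nth 1 X0) := by
    have a : ∀ i : Fin 4, α (nth 1 X0 (chevD4.simple i)) = nth 1 X0 (chevD4.simple ((PI k).getD i 0 : Fin 4)) :=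
      fun i => by
        rw [← hk]
        exact (congrArg α (nth_X0 (chevD4.sr i).2)).trans ((h.1 i 1).trans (nth_X0 (chevD4.sr (π i)).2).symm)
    have b : ∀ i : Fin 4, α (nth 1 X0 (chevD4.neg (chevD4.simple i))) =
        nth 1 X0 (chevD4.neg (chevD4.simple ((PI k).getD i 0 : Fin 4))) := fun i => by
      rw [← hk]
      exact (congrArg α (nth_X0 (chevD4.ng (chevD4.sr i)).2)).trans
        ((h.2 i 1).trans (nth_X0 (chevD4.ng (chevD4.sr (π i))).2).symm)
    have c : ∀ k : Fin 6, i8.map (nth 0 (SG k)) =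
        (List.finRange 4).map (fun i : Fin 4 => chevD4.simple ((PI k).getD i 0 : Fin 4)) ++
          (List.finRange 4).map fun i : Fin 4 => chevD4.neg (chevD4.simple ((PI k).getD i 0 : Fin 4)) := by decide +kernel
    have d : ∀ i : Fin 4, (PI 0).getD i 0 = i := by decide
    rw [c, c]
    simp only [List.map_append, List.map_map, d]
    exact congrArg₂ _ (List.map_congr_left fun i _ => a i) (List.map_congr_left fun i _ => b i)
  rw [← X0_words k, ← h1]
  conv_lhs => rw [← h0]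
  rw [List.map_map]
  refine List.map_congr_left fun w _ => ?_
  change α.toMonoidHom _ = _
  rw [map_evalW]
  exact congrArg (evalW · w) (funext fun i => (Rec.nth_map _ _ i).symm)

theorem exists_gr (k : Fin 6) : ∃ α : MulAut D4, X0.map α = (SG k).map (nth 1 X0) := by
  obtain ⟨π, h1, h2⟩ := (by decide +kernel :
    ∀ k : Fin 6, ∃ π : Equiv.Perm (Fin 4), π 1 = 1 ∧ ∀ i : Fin 4, π i = (PI k).getD i 0) k
  exact ⟨_, gr_X0 (d4G_spec h1) k h2⟩

theorem aut0 (θ : MulAut D4) : ∃ x : D4, ∃ k : Fin 6, X0.map (fun y => x * θ y * x⁻¹) = (SG k).map (nth 1 X0) := by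
  obtain ⟨x, c, π, g, σ, h4, h5, rfl⟩ := (autOK_of_mem (D := chevD4) (F := ZMod 2) (by simp)).decomp θ
  have h6 := (d4_sym π).1 h4
  obtain rfl := h5.unique ((d4G_spec h6).isGrE notLongD4)
  obtain ⟨k, hk⟩ := (by decide +kernel :
    ∀ π : Equiv.Perm (Fin 4), π 1 = 1 → ∃ k : Fin 6, ∀ i : Fin 4, π i = (PI k).getD i 0) π h6
  have hc : c = 1 := funext fun i => Subsingleton.elim _ _
  have hσ : σ = 1 := RingEquiv.ext fun u => by
    rcases (by decide : ∀ u : ZMod 2, u = 0 ∨ u = 1) u with rfl | rfl <;> simp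
  refine ⟨x⁻¹, k, ?_⟩
  rw [← gr_X0 (d4G_spec h6) k hk, hc, hσ, map_one, map_one, one_mul, mul_one]
  refine List.map_congr_left fun y _ => ?_
  rw [MulAut.mul_apply, MulAut.conj_apply]
  group

theorem card_D4 : Nat.card D4 = 174182400 := by
  obtain ⟨e⟩ := nonempty_d4_equiv_pomega (F := ZMod 2)
  rw [Nat.card_congr (e.trans FL.o8Equiv).toEquiv, FL.card_o8]

theorem cX_eq : beqL ((2 * B8.A.one + 1) :: cR.map (2 * ·)) cX = true := by decide +kernel

/-- Letters with the codes of `t` and of the root elements of `Ω₈⁺(2)`: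
`pij = x(ei + ej)`, `mij = x(-ei - ej)`, `qij = x(ei - ej)`. -/
structure Pre (G : Type*) [Group G] where
  (t m12 m13 q41 m14 q31 q21 m23 q42 m24 q32 q43 m34 p34 q34 q23 p24 q24 p23 q12 q13 p14 q14 p13 p12 : G)
  C : Cod A8 G
  rep : C.RepL cX [t, m12, m13, q41, m14, q31, q21, m23, q42, m24, q32, q43, m34, p34, q34, q23, p24, q24, p23, q12, q13, p14, q14, p13, p12]
  ρ : D4 →* G
  inj : Function.Injective ρ
  hρ : X0.map ρ = [m12, m13, q41, m14, q31, q21, m23, q42, m24, q32, q43, m34, p34, q34, q23, p24, q24, p23, q12, q13, p14, q14, p13, p12]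
  tρ : t ∉ ρ.range

variable {G : Type*} [Group G]

namespace Pre

variable (s : Pre G)

/-- The root elements in the order of `chevD4`. -/
abbrev X : List G := [s.m12, s.m13, s.q41, s.m14, s.q31, s.q21, s.m23, s.q42, s.m24, s.q32, s.q43, s.m34, s.p34, s.q34, s.q23, s.p24, s.q24, s.p23, s.q12, s.q13, s.p14, s.q14, s.p13, s.p12]
/-- Generators of `L`. -/
abbrev gL : List G := [s.q12, s.q23, s.q34, s.p34, s.q21, s.q32, s.q43, s.m34]
/-- The group `Ω₈⁺(2)`. -/
def L : Subgroup G := clos s.gL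

theorem repL : s.C.RepL ([19, 15, 14, 13, 6, 10, 11, 12].map (nth A8.one cX)) s.gL := s.rep.pick _

theorem clos_X : clos s.X = s.ρ.range := by
  rw [MonoidHom.range_eq_map, ← clos_X0, map_clos, s.hρ]

theorem L_eq : s.L = s.ρ.range := by
  rw [← s.clos_X]
  refine le_antisymm (clos_le.2 fun x hx => mem_clos ?_) ?_
  · simp only [List.mem_cons, List.not_mem_nil, or_false] at hx ⊢
    tauto
  · have h : beqL (w8.map (evC A8 ([19, 15, 14, 13, 6, 10, 11, 12].map (nth A8.one cX)))) (cX.drop 1) = true := by decide +kernel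
    have h1 : s.X = _ := (s.rep.drop 1).unique (s.repL.words w8 h)
    rw [h1]
    exact clos_words_le _ _

theorem X_mem : ∀ x ∈ s.X, x ∈ s.L := fun _ hx => by
  rw [s.L_eq, ← s.clos_X]
  exact mem_clos hx

theorem card : Nat.card s.L = 174182400 := by
  rw [s.L_eq, ← card_D4]
  exact (Nat.card_congr (MonoidHom.ofInjective s.inj).toEquiv).symm

theorem tL : s.t ∉ s.L := s.L_eq ▸ s.tρ

theorem tt : s.t * s.t = 1 := Cod.listsL_nil.decide s.rep (by decide +kernel)

theorem comm_t : ∀ l ∈ s.L, l * s.t = s.t * l := fun l hl => (commute_clos (g := s.t) (by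
  simp only [List.forall_mem_cons, List.not_mem_nil, false_imp_iff, implies_true, and_true]
  exact Cod.listsL_nil.decide s.rep (by decide +kernel)) l hl).symm

omit s in
theorem of_hom (ρ : D4 →* G) (inj : Function.Injective ρ) {t : G} (tt : t * t = 1) (hL : t ∉ ρ.range)
    (hc : ∀ l ∈ ρ.range, l * t = t * l) : ∃ s : Pre G, s.ρ = ρ ∧ s.t = t := by
  obtain ⟨C, h⟩ := exists_cod0
  have h1 : (C.map ⊤ (ρ.comp (⊤ : Subgroup D4).subtype) (inj.comp Subtype.val_injective)).RepL cR (X0.map ρ) :=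
    h.embed (by simp) (fun _ => mem_top _) _ _ fun i => (Rec.nth_map ρ X0 i).symm
  have hr := (SF6.K0.rept tt hL hc).cons (SF6.K0.rep2 tt hL hc h1 fun x hx => by
    obtain ⟨y, -, rfl⟩ := List.mem_map.1 hx
    exact ⟨y, rfl⟩)
  rw [eq_of_beqL cX_eq] at hr
  have hlen : (X0.map ρ).length = 24 := by simp [X0]
  generalize hl : X0.map ρ = l at hr hlen
  match l, hlen with
  | [m12, m13, q41, m14, q31, q21, m23, q42, m24, q32, q43, m34, p34, q34, q23, p24, q24, p23, q12, q13, p14, q14, p13, p12], _ =>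
    exact ⟨⟨t, m12, m13, q41, m14, q31, q21, m23, q42, m24, q32, q43, m34, p34, q34, q23, p24, q24, p23, q12, q13, p14, q14, p13, p12, _, hr, ρ, inj, hl, hL⟩, rfl, rfl⟩

omit s in
theorem exists_pre {L : Subgroup G} {F : Type*} [Field F] [Fintype F] (hF : Fintype.card F = 2)
    (e : L ≃* POmega F (quadFormPlus 4 F)) {t : G} (tt : t * t = 1) (hL : t ∉ L) (hc : ∀ l ∈ L, l * t = t * l) :
    ∃ s : Pre G, s.L = L ∧ s.t = t := by
  obtain ⟨φ⟩ := nonempty_d4_equiv_pomega (F := ZMod 2)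
  let σ : ZMod 2 ≃+* F := FiniteField.ringEquivOfCardEq (by rw [ZMod.card, hF])
  let ψ : D4 ≃* L := (φ.trans (pomegaMapEquiv σ (quadFormPlus_comp 4 σ))).trans e.symm
  have hr : (L.subtype.comp ψ.toMonoidHom).range = L := by
    rw [MonoidHom.range_comp, MonoidHom.range_eq_top.2 ψ.surjective, ← MonoidHom.range_eq_map, range_subtype]
  obtain ⟨s, h1, h2⟩ := of_hom (L.subtype.comp ψ.toMonoidHom) (Subtype.val_injective.comp ψ.injective) tt
    (by rwa [hr]) (by rwa [hr])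
  exact ⟨s, by rw [s.L_eq, h1, hr], h2⟩

theorem map_SG (k : Fin 6) : ((SG k).map (nth 1 X0)).map s.ρ = (SG k).map (nth 1 s.X) := by
  rw [List.map_map, show s.X = X0.map s.ρ from s.hρ.symm]
  exact List.map_congr_left fun i _ => (Rec.nth_map _ _ i).symm

/-- Relabelling by a symmetry of the diagram. -/
theorem exists_tw (k : Fin 6) : ∃ s' : Pre G, s'.t = s.t ∧ s'.L = s.L ∧ s'.X = (SG k).map (nth 1 s.X) := by
  obtain ⟨α, hα⟩ := exists_gr k
  have hr : (s.ρ.comp α.toMonoidHom).range = s.L := by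
    rw [MonoidHom.range_comp, MonoidHom.range_eq_top.2 α.surjective, ← MonoidHom.range_eq_map, s.L_eq]
  obtain ⟨s', h1, h2⟩ := of_hom (s.ρ.comp α.toMonoidHom) (s.inj.comp α.injective) s.tt (hr ▸ s.tL) (hr ▸ s.comm_t)
  refine ⟨s', h2, by rw [s'.L_eq, h1, hr], ?_⟩
  rw [← s.map_SG, ← hα, List.map_map, show s'.X = X0.map s'.ρ from s'.hρ.symm, h1]
  rfl

/-- Every element normalising `L` induces an inner automorphism times a symmetry of the diagram. -/
theorem aut {g : G} (hg : g ∈ normalizer (s.L : Set G)) :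
    ∃ l ∈ s.L, ∃ k : Fin 6, s.X.map (fun y => l * g * y * (l * g)⁻¹) = (SG k).map (nth 1 s.X) := by
  rw [s.L_eq] at hg
  let φ := MonoidHom.ofInjective s.inj
  obtain ⟨x, k, h⟩ := aut0 ((φ.trans (s.ρ.range.normalizerMonoidHom ⟨g, hg⟩)).trans φ.symm)
  refine ⟨s.ρ x, s.L_eq ▸ ⟨x, rfl⟩, k, ?_⟩
  rw [← s.map_SG, ← h, show s.X = X0.map s.ρ from s.hρ.symm, List.map_map, List.map_map]
  refine List.map_congr_left fun y _ => ?_
  have h2 : ∀ u : s.ρ.range, s.ρ (φ.symm u) = u := fun u => congrArg Subtype.val (φ.apply_symm_apply u)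
  simp only [Function.comp_apply, map_mul, map_inv, MulEquiv.trans_apply, h2]
  change _ = s.ρ x * (g * s.ρ y * g⁻¹) * (s.ρ x)⁻¹
  group

end Pre

end Cfsg.Agent.SF8
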